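import Groth.Agent.ResProp.K741.Chr

/-!
# Elements of trace one on the part cut out by an invariant idempotent

The variant of `K741.Chr.exists_sum_smul_eq_one` for a finite group which acts freely on the open
and closed part of `Spec B` where an invariant idempotent `ε` is `1`.
-/

set_option autoImplicit false
universe u v

namespace K468.ChrE

open K741.Chr

/-- Let a finite group act on a ring `B` and let `ε` be an invariant idempotent such that no
nontrivial element fixes a point of `D(ε)` together with its residue field. Then some element has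
trace one on `D(ε)`. -/
theorem exists_trace {B : Type u} [CommRing B] {G : Type v} [Group G] [Fintype G]
    [MulSemiringAction G B] (ε : B) (hε : ε * ε = ε) (hεσ : ∀ g : G, g • ε = ε)
    (h : ∀ g : G, g ≠ 1 → ε ∈ Ideal.span (Set.range fun b : B => g • b - b)) :
    ∃ e : B, ε * ∑ g : G, g • e = ε := by
  let A := FixedPoints.subring B G
  have hinv : Algebra.IsInvariant A B G := ⟨fun b hb => ⟨⟨b, hb⟩, rfl⟩⟩
  have hint : Algebra.IsIntegral A B := Algebra.IsInvariant.isIntegral A B G
  let ε' : A := ⟨ε, fun g => hεσ g⟩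
  let J : Ideal A := LinearMap.range (trL (B := B) (G := G)) ⊔ Ideal.span {1 - ε'}
  have hmap : Ideal.map (algebraMap A B) J = ⊤ := by
    by_contra hne
    obtain ⟨n, hn, hle⟩ := Ideal.exists_le_maximal _ hne
    have h1 : (1 : B) - ε ∈ n :=
      hle (Ideal.mem_map_of_mem (algebraMap A B)
        (le_sup_right (a := LinearMap.range (trL (B := B) (G := G)))
          (Ideal.subset_span (Set.mem_singleton (1 - ε')))))
    have h2 : ε ∉ n := fun h2 => hn.ne_top ((Ideal.eq_top_iff_one n).mpr (by
      simpa using n.add_mem h1 h2))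
    let _ := Ideal.Quotient.field n
    let χ : G → (B →* (B ⧸ n)) := fun g =>
      ((Ideal.Quotient.mk n : B →+* B ⧸ n) : B →* B ⧸ n).comp
        ((MulSemiringAction.toRingHom G B g : B →+* B) : B →* B)
    have hχ (g : G) (b : B) : χ g b = Ideal.Quotient.mk n (g • b) := rfl
    have hinj : Function.Injective χ := by
      intro g g' hgg
      by_contra hne'
      have hspan := h (g * g'⁻¹) fun h1 => hne' (mul_inv_eq_one.mp h1)
      refine h2 ((Ideal.span_le.mpr ?_) hspan)
      rintro _ ⟨b, rfl⟩
      have := DFunLike.congr_fun hgg (g'⁻¹ • b)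
      rw [hχ, hχ, ← mul_smul, smul_inv_smul, Ideal.Quotient.mk_eq_mk_iff_sub_mem] at this
      exact this
    have hli := (linearIndependent_monoidHom B (B ⧸ n)).comp χ hinj
    rw [Fintype.linearIndependent_iff] at hli
    refine one_ne_zero (α := B ⧸ n) (hli (fun _ => 1) ?_ 1)
    funext b
    simp only [one_smul, Finset.sum_apply, Function.comp_apply, hχ, Pi.zero_apply]
    rw [← map_sum, Ideal.Quotient.eq_zero_iff_mem]
    have hb : trL b ∈ J := le_sup_left (a := LinearMap.range (trL (B := B) (G := G))) ⟨b, rfl⟩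
    exact hle (Ideal.mem_map_of_mem (algebraMap A B) hb)
  rw [Ideal.map_eq_top_iff (algebraMap A B) Subtype.coe_injective
    (algebraMap_isIntegral_iff.mpr hint), Ideal.eq_top_iff_one] at hmap
  obtain ⟨_, ⟨b, rfl⟩, c, hc, hbc⟩ := Submodule.mem_sup.mp hmap
  obtain ⟨d, rfl⟩ := Ideal.mem_span_singleton'.mp hc
  refine ⟨b, ?_⟩
  have h3 : (∑ g : G, g • b) + (d : B) * (1 - ε) = 1 := congrArg Subtype.val hbc
  have h4 : ε * (∑ g : G, g • b) = ε * ((∑ g : G, g • b) + (d : B) * (1 - ε)) := by
    rw [mul_add, mul_left_comm, mul_sub, hε, mul_one, sub_self, mul_zero, add_zero]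
  rw [h4, h3, mul_one]

end K468.ChrE
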